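import Mathlib
import Groth.Prelude.Def_FrobAlg
import Groth.Agent.CSA.Descent

/-! Relative Frobenius, formally unramified and étale algebras in characteristic p. -/

open TensorProduct

namespace Groth.Agent.RelFrobSmooth

universe u v

variable (p : ℕ) [hp : Fact p.Prime] (A : Type u) [CommRing A] [CharP A p]
  (B : Type v) [CommRing B] [Algebra A B] [CharP B p]

theorem relFrob_tmul (b : B) (a : FrobAlg.Twist p A) :
    FrobAlg.relFrob p A B (b ⊗ₜ a) = b ^ p * algebraMap A B ((FrobAlg.toTwist p A).symm a) := by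
  simp only [FrobAlg.relFrob, RingHom.comp_apply, AlgHom.toRingHom_eq_coe, RingHom.coe_coe,
    Algebra.TensorProduct.lift_tmul]
  rfl

theorem algebraMap_mem_range (a : A) :
    FrobAlg.relFrob p A B ((1 : B) ⊗ₜ FrobAlg.toTwist p A a) = algebraMap A B a := by
  rw [relFrob_tmul, one_pow, one_mul, RingEquiv.symm_apply_apply]

theorem pow_mem_range (b : B) : FrobAlg.relFrob p A B (b ⊗ₜ 1) = b ^ p := by
  rw [relFrob_tmul, map_one, map_one, mul_one]

theorem etale_cancel {R C B : Type*} [CommRing R] [CommRing C] [CommRing B] (i : R →+* C) (f : C →+* B)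
    (hi : i.Etale) (hfi : (f.comp i).Etale) : f.Etale := by
  algebraize [i, f, f.comp i]
  exact Algebra.Etale.of_restrictScalars R C B

theorem bijective_of_etale [Algebra.Etale A B] : Function.Bijective (FrobAlg.relFrob p A B) := by
  letI := (FrobAlg.relFrob p A B).toAlgebra
  set C := FrobAlg.BaseChange p A B
  set f := FrobAlg.relFrob p A B with hf
  let g : B →+* C := (Algebra.TensorProduct.includeLeftRingHom : B →+* B ⊗[A] FrobAlg.Twist p A)
  have hfg : ∀ b, f (g b) = b ^ p := pow_mem_range p A B
  have hpC : (p : C) = 0 := by rw [← map_natCast g, CharP.cast_eq_zero, map_zero]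
  have hgf : ∀ z, g (f z) = z ^ p := fun z => by
    induction z using TensorProduct.induction_on with
    | zero => rw [map_zero, map_zero, zero_pow hp.out.ne_zero]
    | tmul x a =>
      rw [hf, relFrob_tmul, Algebra.TensorProduct.tmul_pow]
      show (x ^ p * algebraMap A B _) ⊗ₜ[A] (1 : FrobAlg.Twist p A) = _
      rw [mul_comm, ← Algebra.smul_def, TensorProduct.smul_tmul, Algebra.smul_def, FrobAlg.algebraMap_twist, mul_one,
        map_pow, RingEquiv.apply_symm_apply]
    | add x y hx hy =>
      rcases subsingleton_or_nontrivial C with hC | hC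
      · exact Subsingleton.elim _ _
      · have : CharP C p := (CharP.charP_iff_prime_eq_zero hp.out).mpr hpC
        rw [map_add, map_add, hx, hy, add_pow_char]
  have : Algebra.Etale C B := by
    have hi : (Algebra.TensorProduct.includeRight : FrobAlg.Twist p A →ₐ[A] C).toRingHom.Etale := by
      letI : Algebra (FrobAlg.Twist p A) C := (Algebra.TensorProduct.includeRight : FrobAlg.Twist p A →ₐ[A] C).toRingHom.toAlgebra
      have h1 : Algebra.Etale (FrobAlg.Twist p A) (FrobAlg.Twist p A ⊗[A] B) := inferInstance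
      exact RingHom.etale_algebraMap.mpr (@Algebra.Etale.of_equiv _ _ _ _ _ _ _ _ h1
        (AlgEquiv.ofRingEquiv (R := FrobAlg.Twist p A) (f := (Algebra.TensorProduct.comm A (FrobAlg.Twist p A) B).toRingEquiv)
          fun a => by
            show Algebra.TensorProduct.comm A (FrobAlg.Twist p A) B (a ⊗ₜ (1 : B)) = (1 : B) ⊗ₜ a
            rw [Algebra.TensorProduct.comm_tmul]))
    have hc : f.comp (Algebra.TensorProduct.includeRight : FrobAlg.Twist p A →ₐ[A] C).toRingHom =
        (algebraMap A B).comp ((FrobAlg.toTwist p A).symm : FrobAlg.Twist p A →+* A) := RingHom.ext fun a => by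
      show f ((1 : B) ⊗ₜ a) = algebraMap A B ((FrobAlg.toTwist p A).symm a)
      rw [hf, relFrob_tmul, one_pow, one_mul]
    have hiso : ((FrobAlg.toTwist p A).symm : FrobAlg.Twist p A →+* A).Etale :=
      RingHom.Etale.of_bijective (FrobAlg.toTwist p A).symm.bijective
    have hB : (algebraMap A B).Etale := RingHom.etale_algebraMap.mpr inferInstance
    refine etale_cancel _ f hi (hc ▸ ?_)
    algebraize [((FrobAlg.toTwist p A).symm : FrobAlg.Twist p A →+* A),
      (algebraMap A B).comp ((FrobAlg.toTwist p A).symm : FrobAlg.Twist p A →+* A)]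
    haveI : IsScalarTower (FrobAlg.Twist p A) A B := IsScalarTower.of_algebraMap_eq fun _ => rfl
    exact Algebra.Etale.comp (FrobAlg.Twist p A) A B
  -- `B ⊗[C] B → B` has trivial kernel
  obtain ⟨t, ht, ht1⟩ := Algebra.FormallyUnramified.iff_exists_tensorProduct.mp (inferInstance : Algebra.FormallyUnramified C B)
  have hx : ∀ b : B, IsNilpotent ((1 : B) ⊗ₜ[C] b - b ⊗ₜ[C] (1 : B)) := fun b => by
    rcases subsingleton_or_nontrivial (B ⊗[C] B) with hs | hs
    · exact ⟨1, Subsingleton.elim _ _⟩
    have : CharP (B ⊗[C] B) p := (CharP.charP_iff_prime_eq_zero hp.out).mpr (by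
      rw [← map_natCast (algebraMap C (B ⊗[C] B)), hpC, map_zero])
    refine ⟨p, ?_⟩
    rw [sub_pow_char, Algebra.TensorProduct.tmul_pow, Algebra.TensorProduct.tmul_pow, one_pow, ← hfg, sub_eq_zero,
      show f (g b) = g b • (1 : B) from by rw [Algebra.smul_def, mul_one]; rfl, TensorProduct.smul_tmul]
  have hker : KaehlerDifferential.ideal C B ≤ nilradical (B ⊗[C] B) := by
    rw [← KaehlerDifferential.span_range_eq_ideal, Ideal.span_le]
    rintro _ ⟨b, rfl⟩
    exact hx b
  have hu : IsUnit t := by
    have : IsNilpotent (t - 1) := mem_nilradical.mp (hker (by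
      rw [KaehlerDifferential.ideal, RingHom.mem_ker, map_sub, ht1, map_one, sub_self]))
    simpa using this.isUnit_add_one
  have hdiag : ∀ b : B, (1 : B) ⊗ₜ[C] b = b ⊗ₜ[C] (1 : B) := fun b =>
    sub_eq_zero.mp (hu.mul_left_eq_zero.mp (ht b))
  have : Module.Finite C B := by
    have : Algebra.IsIntegral C B := ⟨fun b => IsIntegral.of_pow hp.out.pos (hfg b ▸ isIntegral_algebraMap (R := C) (A := B) (x := g b))⟩
    exact Algebra.IsIntegral.finite
  have hspec : Function.Surjective (PrimeSpectrum.comap (algebraMap C B)) := fun q => by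
    refine ⟨PrimeSpectrum.comap g q, PrimeSpectrum.ext (Ideal.ext fun z => ?_)⟩
    show g (f z) ∈ q.asIdeal ↔ z ∈ q.asIdeal
    rw [hgf]
    exact ⟨q.2.mem_of_pow_mem p, fun h => Ideal.pow_mem_of_mem _ h p hp.out.pos⟩
  let L := LinearMap.range (Algebra.linearMap C B)
  have hsub : Subsingleton (B ⊗[C] (B ⧸ L)) := by
    refine subsingleton_of_forall_eq 0 fun z => ?_
    induction z using TensorProduct.induction_on with
    | zero => rfl
    | tmul x y =>
      obtain ⟨b, rfl⟩ := Submodule.mkQ_surjective L y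
      have h1 := congrArg (LinearMap.lTensor B L.mkQ) (hdiag b)
      rw [LinearMap.lTensor_tmul, LinearMap.lTensor_tmul] at h1
      have h1L : L.mkQ (1 : B) = 0 := (Submodule.Quotient.mk_eq_zero _).mpr ⟨1, (Algebra.linearMap_apply C B 1).trans (map_one _)⟩
      rw [h1L, TensorProduct.tmul_zero] at h1
      rw [show x ⊗ₜ[C] L.mkQ b = x • ((1 : B) ⊗ₜ[C] L.mkQ b) by rw [TensorProduct.smul_tmul', smul_eq_mul, mul_one],
        h1, smul_zero]
    | add x y hx hy => rw [hx, hy, add_zero]
  have := CSA.subsingleton_of_baseChange C B (Q := B ⧸ L) hspec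
  have hsurj : Function.Surjective (algebraMap C B) := by
    intro b
    obtain ⟨c, hc⟩ := (Submodule.Quotient.mk_eq_zero L).mp (Subsingleton.elim (Submodule.Quotient.mk b : B ⧸ L) 0)
    exact ⟨c, hc⟩
  refine ⟨?_, hsurj⟩
  have hid := (Algebra.FormallyEtale.iff_of_surjective hsurj).mp inferInstance
  have hfg' : (RingHom.ker (algebraMap C B)).FG :=
    Algebra.FinitePresentation.ker_fG_of_surjective (Algebra.ofId C B) hsurj
  obtain ⟨e, he, he'⟩ := (Ideal.isIdempotentElem_iff_of_fg _ hfg').mp hid
  have he0 : e = 0 := by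
    have hm : f e = 0 := RingHom.mem_ker.mp (show e ∈ RingHom.ker (algebraMap C B) by rw [he']; exact Ideal.mem_span_singleton_self e)
    have := hgf e
    rw [hm, map_zero, he.pow_eq hp.out.ne_zero] at this
    exact this.symm
  rw [show Function.Injective f ↔ RingHom.ker f = ⊥ from RingHom.injective_iff_ker_eq_bot f]
  show RingHom.ker (algebraMap C B) = ⊥
  rw [he', he0]
  simp

end Groth.Agent.RelFrobSmooth
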