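import Groth.Agent.RelFrobSmooth.Etale
import Mathlib.RingTheory.RingHom.Flat
import Mathlib.RingTheory.Unramified.LocalStructure
import Mathlib.Algebra.MvPolynomial.Expand

/-! The relative Frobenius of a smooth algebra is flat. -/

set_option autoImplicit false
set_option linter.style.haveILetI false
universe u v w
open TensorProduct FrobAlg MvPolynomial

namespace Groth.Agent.RelFrobSmooth

/-- a copy of the polynomial ring, over itself through `expand` -/
@[nolint unusedArguments]
def ExpT (σ : Type w) (R : Type u) [CommRing R] (_p : ℕ) : Type (max u w) := MvPolynomial σ R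

noncomputable instance (σ : Type w) (R : Type u) [CommRing R] (p : ℕ) : CommRing (ExpT σ R p) :=
  inferInstanceAs (CommRing (MvPolynomial σ R))

/-- the identity -/
noncomputable def toExp (σ : Type w) (R : Type u) [CommRing R] (p : ℕ) : MvPolynomial σ R ≃+* ExpT σ R p :=
  RingEquiv.refl _

noncomputable instance (σ : Type w) (R : Type u) [CommRing R] (p : ℕ) : Algebra (MvPolynomial σ R) (ExpT σ R p) :=
  ((toExp σ R p : MvPolynomial σ R →+* ExpT σ R p).comp (expand p (σ := σ) (R := R)).toRingHom).toAlgebra

theorem expand_basis (σ : Type w) [Fintype σ] (R : Type u) [CommRing R] (p : ℕ) (hp : 0 < p) :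
    Nonempty (((σ → Fin p) → MvPolynomial σ R) ≃ₗ[MvPolynomial σ R] ExpT σ R p) := by
  classical
  let emb : (σ → Fin p) → (σ →₀ ℕ) := fun r => Finsupp.equivFunOnFinite.symm fun i => (r i : ℕ)
  have hemb : ∀ r i, emb r i = (r i : ℕ) := fun r i => rfl
  let v : (σ → Fin p) → ExpT σ R p := fun r => toExp σ R p (monomial (emb r) 1)
  have hsmul : ∀ (c : MvPolynomial σ R) r, (toExp σ R p).symm (c • v r) = expand p c * monomial (emb r) 1 :=
    fun c r => by
      rw [Algebra.smul_def, map_mul]
      rfl
  let L := Fintype.linearCombination (MvPolynomial σ R) v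
  have hcoeff : ∀ (g : (σ → Fin p) → MvPolynomial σ R) q r₀,
      ((toExp σ R p).symm (L g)).coeff (p • q + emb r₀) = (g r₀).coeff q := by
    intro g q r₀
    rw [show (toExp σ R p).symm (L g) = ∑ r, expand p (g r) * monomial (emb r) 1 by
      simp only [L, Fintype.linearCombination_apply, map_sum, hsmul], coeff_sum, Finset.sum_eq_single r₀]
    · rw [coeff_mul_monomial, mul_one, coeff_expand_smul p hp.ne']
    · intro r _ hne
      rw [coeff_mul_monomial']
      split_ifs with hle
      · obtain ⟨i, hi⟩ := Function.ne_iff.1 hne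
        rw [mul_one, coeff_expand_of_not_dvd (i := i)]
        simp only [Finsupp.coe_tsub, Pi.sub_apply, Finsupp.add_apply, Finsupp.smul_apply, smul_eq_mul, hemb]
        intro hdvd
        apply hi
        have hle' : (r i : ℕ) ≤ p * q i + r₀ i := by simpa [hemb] using hle i
        obtain ⟨k, hk⟩ := hdvd
        have h : (p * k + r i) % p = (p * q i + r₀ i) % p := by rw [← hk, Nat.sub_add_cancel hle']
        rw [Nat.mul_add_mod, Nat.mul_add_mod, Nat.mod_eq_of_lt (r i).isLt, Nat.mod_eq_of_lt (r₀ i).isLt] at h
        exact Fin.ext h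
      · rfl
    · simp
  let rr : (σ →₀ ℕ) → (σ → Fin p) := fun d i => ⟨d i % p, Nat.mod_lt _ hp⟩
  let qq : (σ →₀ ℕ) → (σ →₀ ℕ) := fun d => d.mapRange (· / p) (Nat.zero_div p)
  have hdec : ∀ d, p • qq d + emb (rr d) = d := fun d => Finsupp.ext fun i => by
    simp only [Finsupp.add_apply, Finsupp.smul_apply, smul_eq_mul, qq, Finsupp.mapRange_apply, hemb, rr]
    exact Nat.div_add_mod _ _
  have hbij : Function.Bijective L := by
    refine ⟨fun g g' h => funext fun r => MvPolynomial.ext _ _ fun q => ?_, fun x => ?_⟩
    · rw [← hcoeff, h, hcoeff]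
    · obtain ⟨x, rfl⟩ := (toExp σ R p).surjective x
      induction x using MvPolynomial.induction_on' with
      | monomial d c =>
        refine ⟨Pi.single (rr d) (monomial (qq d) c), (toExp σ R p).symm.injective ?_⟩
        rw [Fintype.linearCombination_apply_single, hsmul, RingEquiv.symm_apply_apply, expand_monomial,
          monomial_mul, mul_one, hdec]
      | add a b ha hb =>
        obtain ⟨g, hg⟩ := ha
        obtain ⟨g', hg'⟩ := hb
        exact ⟨g + g', by rw [map_add, hg, hg', map_add]⟩
  exact ⟨LinearEquiv.ofBijective L hbij⟩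

theorem expand_flat (σ : Type w) [Finite σ] (R : Type u) [CommRing R] (p : ℕ) (hp : 0 < p) :
    (expand p (σ := σ) (R := R)).toRingHom.Flat := by
  classical
  haveI := Fintype.ofFinite σ
  rw [← RingHom.Flat.comp_iff_of_bijective_left (g := (toExp σ R p : MvPolynomial σ R →+* ExpT σ R p))
    (toExp σ R p).bijective]
  show Module.Flat (MvPolynomial σ R) (ExpT σ R p)
  obtain ⟨e⟩ := expand_basis σ R p hp
  exact Module.Flat.of_linearEquiv e.symm

theorem flat_of_span {R : Type w} {S : Type v} [CommRing R] [CommRing S] (f : R →+* S) (s : Set S)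
    (hsp : Ideal.span s = ⊤) (h : ∀ r : s, ((algebraMap S (Localization.Away r.1)).comp f).Flat) : f.Flat := by
  algebraize_only [f]
  refine Module.flat_of_isLocalized_span _ _ s hsp _
    (fun r ↦ Algebra.linearMap S <| Localization.Away r.1) ?_
  dsimp only [RingHom.Flat] at h
  convert! h; ext
  apply Algebra.smul_def

variable (p : ℕ) [hp : Fact p.Prime] (A : Type u) [CommRing A] [CharP A p]

theorem relFrob_mvPolynomial (σ : Type w) :
    ∃ ε : BaseChange p A (MvPolynomial σ A) ≃+* MvPolynomial σ A,
      relFrob p A (MvPolynomial σ A) = (expand p (σ := σ) (R := A)).toRingHom.comp ε.toRingHom := by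
  let e : MvPolynomial σ (Twist p A) →+* BaseChange p A (MvPolynomial σ A) :=
    eval₂Hom Algebra.TensorProduct.includeRight.toRingHom fun i => (X i : MvPolynomial σ A) ⊗ₜ[A] (1 : Twist p A)
  let e' : BaseChange p A (MvPolynomial σ A) →+* MvPolynomial σ (Twist p A) :=
    (Algebra.TensorProduct.lift (R := A) (S := A) (A := MvPolynomial σ A) (B := Twist p A)
      (C := MvPolynomial σ (Twist p A)) (MvPolynomial.aeval fun i => X i)
      (IsScalarTower.toAlgHom A (Twist p A) _) fun _ _ => Commute.all _ _).toRingHom
  have h1 : e'.comp e = RingHom.id _ := by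
    refine MvPolynomial.ringHom_ext (fun a => ?_) fun i => ?_ <;> simp [e, e', MvPolynomial.algebraMap_eq]
  have h2 : e.comp e' = RingHom.id _ := by
    refine RingHom.ext fun z => ?_
    induction z using TensorProduct.induction_on with
    | zero => rw [map_zero, RingHom.id_apply]
    | add x y hx hy => rw [map_add, hx, hy, map_add]
    | tmul x a =>
      induction x using MvPolynomial.induction_on with
      | C c =>
        simp only [e, e', RingHom.comp_apply, RingHom.id_apply, AlgHom.toRingHom_eq_coe, RingHom.coe_coe,
          Algebra.TensorProduct.lift_tmul, aeval_C, IsScalarTower.coe_toAlgHom', MvPolynomial.algebraMap_apply,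
          Algebra.algebraMap_self, RingHom.id_apply, map_mul, eval₂Hom_C,
          Algebra.TensorProduct.includeRight_apply]
        rw [Algebra.TensorProduct.tmul_mul_tmul, mul_one, ← Algebra.smul_def, ← TensorProduct.smul_tmul,
          Algebra.smul_def, mul_one, MvPolynomial.algebraMap_eq]
      | add x y hx hy => rw [TensorProduct.add_tmul, map_add, hx, hy, map_add]
      | mul_X x i hx =>
        rw [show (x * X i) ⊗ₜ[A] a = x ⊗ₜ[A] a * (X i) ⊗ₜ[A] (1 : Twist p A) by
          rw [Algebra.TensorProduct.tmul_mul_tmul, mul_one], map_mul, hx, map_mul]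
        simp [e, e']
  have hbij : Function.Bijective e :=
    ⟨Function.LeftInverse.injective (g := e') (RingHom.congr_fun h1),
      Function.RightInverse.surjective (g := e') (RingHom.congr_fun h2)⟩
  have heq : (relFrob p A (MvPolynomial σ A)).comp e =
      (expand p (σ := σ) (R := A)).toRingHom.comp (map ((toTwist p A).symm : Twist p A →+* A)) := by
    refine MvPolynomial.ringHom_ext (fun a => ?_) fun i => ?_
    · simp [e, relFrob_tmul, MvPolynomial.algebraMap_eq]
    · simp [e, relFrob_tmul]
  let ε := (RingEquiv.ofBijective e hbij).symm.trans (mapEquiv σ (toTwist p A).symm)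
  refine ⟨ε, RingHom.ext fun z => ?_⟩
  obtain ⟨z, rfl⟩ := hbij.2 z
  rw [← RingHom.comp_apply, heq]
  show expand p (map _ z) = expand p (mapEquiv σ (toTwist p A).symm ((RingEquiv.ofBijective e hbij).symm (e z)))
  rw [show (RingEquiv.ofBijective e hbij).symm (e z) = z from (RingEquiv.ofBijective e hbij).symm_apply_apply z]
  rfl

theorem flat_mvPolynomial (σ : Type w) [Finite σ] : (relFrob p A (MvPolynomial σ A)).Flat := by
  obtain ⟨ε, hε⟩ := relFrob_mvPolynomial p A σ
  rw [hε]
  exact .comp (.of_bijective ε.bijective) (expand_flat σ A p hp.out.pos)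

theorem flat_of_etale (P : Type w) [CommRing P] [Algebra A P] [CharP P p] (hP : (relFrob p A P).Flat)
    (C : Type v) [CommRing C] [Algebra A C] [Algebra P C] [IsScalarTower A P C] [CharP C p] [Algebra.Etale P C] :
    (relFrob p A C).Flat := by
  let g : P ⊗[A] Twist p A →ₐ[P] Twist p P :=
    { (toTwist p P : P →+* Twist p P).comp (relFrob p A P) with
      commutes' := fun x => by
        show toTwist p P (relFrob p A P (x ⊗ₜ 1)) = _
        rw [pow_mem_range, algebraMap_twist] }
  have hg : g.toRingHom.Flat := .comp hP (.of_bijective (toTwist p P).bijective)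
  let e := (Algebra.TensorProduct.cancelBaseChange A P C C (Twist p A)).symm
  let m : BaseChange p A C →+* BaseChange p P C :=
    (Algebra.TensorProduct.lTensor (S := C) C g).toRingHom.comp e.toAlgHom.toRingHom
  have hm : m.Flat := .comp (.of_bijective e.bijective) (RingHom.Flat.lTensor (S := C) C hg)
  have heq : relFrob p A C = (relFrob p P C).comp m := by
    refine RingHom.ext fun z => ?_
    induction z using TensorProduct.induction_on with
    | zero => rw [map_zero, map_zero]
    | add x y hx hy => rw [map_add, map_add, hx, hy]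
    | tmul c a =>
      obtain ⟨a, rfl⟩ := (toTwist p A).surjective a
      have hm1 : m (c ⊗ₜ toTwist p A a) = c ⊗ₜ[P] toTwist p P (algebraMap A P a) := by
        simp [m, e, g, relFrob_tmul]
      rw [RingHom.comp_apply, hm1, relFrob_tmul, relFrob_tmul, RingEquiv.symm_apply_apply,
        RingEquiv.symm_apply_apply, ← IsScalarTower.algebraMap_apply]
  rw [heq]
  exact .comp hm (.of_bijective (bijective_of_etale p P C))

theorem flat_of_smooth (B : Type v) [CommRing B] [Algebra A B] [CharP B p] [Algebra.Smooth A B] :
    (relFrob p A B).Flat := by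
  let s : Set B := {f | ∃ (_ : CharP (Localization.Away f) p) (n : ℕ)
    (_ : Algebra (MvPolynomial (Fin n) A) (Localization.Away f)),
    IsScalarTower A (MvPolynomial (Fin n) A) (Localization.Away f) ∧
      Algebra.Etale (MvPolynomial (Fin n) A) (Localization.Away f)}
  refine flat_of_span (relFrob p A B) s ?_ fun ⟨f, hch, n, i, hT, hE⟩ => ?_
  · rw [Ideal.eq_top_iff_one]
    by_contra h
    obtain ⟨m, hm, hle⟩ := Ideal.exists_le_maximal _ ((Ideal.ne_top_iff_one _).2 h)
    obtain ⟨f, hf, n, i, hT, hE⟩ := Algebra.IsSmoothAt.exists_isStandardEtale_mvPolynomial (R := A) (S := B) (p := m)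
    refine hf (hle (Ideal.subset_span ⟨?_, n, i, hT, inferInstance⟩))
    haveI : Nontrivial (Localization.Away f) := by
      rw [← not_subsingleton_iff_nontrivial]
      intro hs
      have := (IsLocalization.subsingleton_iff (M := Submonoid.powers f)).1 hs
      obtain ⟨k, hk⟩ := this
      have hk' : f ^ k = 0 := hk
      exact hf (hm.isPrime.mem_of_pow_mem k (hk' ▸ m.zero_mem))
    exact (CharP.charP_iff_prime_eq_zero hp.out).mpr
      (by rw [← map_natCast (algebraMap B (Localization.Away f)), CharP.cast_eq_zero, map_zero])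
  · let ι : B →ₐ[A] Localization.Away f := IsScalarTower.toAlgHom A B _
    have hι : ι.toRingHom.Flat := by
      show (algebraMap B (Localization.Away f)).Flat
      rw [RingHom.flat_algebraMap_iff]
      exact IsLocalization.flat _ (Submonoid.powers f)
    have h1 := RingHom.Flat.tensorProductMap (R := A) (S := A) (f := ι) (g := AlgHom.id A (Twist p A)) hι
      (RingHom.Flat.id (R := Twist p A))
    have h2 : (relFrob p A (Localization.Away f)).comp (Algebra.TensorProduct.map ι (AlgHom.id A (Twist p A))).toRingHom =
        (algebraMap B (Localization.Away f)).comp (relFrob p A B) := by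
      refine RingHom.ext fun z => ?_
      induction z using TensorProduct.induction_on with
      | zero => simp
      | add x y hx hy => rw [map_add, map_add, hx, hy]
      | tmul b a => simp [relFrob_tmul, ι, ← IsScalarTower.algebraMap_apply]
    show ((algebraMap B (Localization.Away f)).comp (relFrob p A B)).Flat
    rw [← h2]
    exact .comp h1 (flat_of_etale p A _ (flat_mvPolynomial p A (Fin n)) _)

end Groth.Agent.RelFrobSmooth
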