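import Groth.Agent.RelFrobSmooth.Main
import Groth.Agent.S3191
import Mathlib

/-! The relative Frobenius of a smooth algebra is finite projective of rank `p ^ r`. -/

set_option autoImplicit false
set_option linter.style.haveILetI false
universe u w
open TensorProduct FrobAlg MvPolynomial

namespace Groth.Agent.RelFrobSmooth

variable (p : ℕ) [hp : Fact p.Prime] (A : Type u) [CommRing A] [CharP A p]

theorem free_mvPolynomial (σ : Type w) [Fintype σ] [Nontrivial A] :
    letI := (relFrob p A (MvPolynomial σ A)).toAlgebra
    Module.Free (BaseChange p A (MvPolynomial σ A)) (MvPolynomial σ A) ∧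
      Module.Finite (BaseChange p A (MvPolynomial σ A)) (MvPolynomial σ A) ∧
      Module.finrank (BaseChange p A (MvPolynomial σ A)) (MvPolynomial σ A) = p ^ Fintype.card σ := by
  classical
  letI := (relFrob p A (MvPolynomial σ A)).toAlgebra
  obtain ⟨ε, hε⟩ := relFrob_mvPolynomial p A σ
  obtain ⟨b⟩ := expand_basis σ A p hp.out.pos
  haveI : Module.Free (MvPolynomial σ A) (ExpT σ A p) := Module.Free.of_equiv b
  haveI : Module.Finite (MvPolynomial σ A) (ExpT σ A p) := Module.Finite.equiv b
  haveI := RingHomInvPair.of_ringEquiv ε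
  haveI := RingHomInvPair.of_ringEquiv_symm ε
  let e : ExpT σ A p ≃ₛₗ[(ε.symm : MvPolynomial σ A →+* BaseChange p A (MvPolynomial σ A))] MvPolynomial σ A :=
    { (toExp σ A p).symm.toAddEquiv with
      map_smul' := fun c x => by
        show (toExp σ A p).symm (algebraMap (MvPolynomial σ A) (ExpT σ A p) c * x) =
          relFrob p A (MvPolynomial σ A) (ε.symm c) * (toExp σ A p).symm x
        rw [hε, RingHom.comp_apply, map_mul, RingEquiv.toRingHom_eq_coe, RingHom.coe_coe,
          RingEquiv.apply_symm_apply]
        rfl }
  haveI : Module.Free (BaseChange p A (MvPolynomial σ A)) (MvPolynomial σ A) := Module.Free.of_equiv e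
  refine ⟨inferInstance, Module.Finite.of_surjective e.toLinearMap e.surjective, ?_⟩
  rw [← Algebra.finrank_eq_of_equiv_equiv (R₀ := MvPolynomial σ A) (S₀ := ExpT σ A p) ε.symm
    (toExp σ A p).symm (RingHom.ext fun c => ?_), ← b.finrank_eq, Module.finrank_pi, Fintype.card_pi,
    Finset.prod_const, Fintype.card_fin, Finset.card_univ]
  show relFrob p A (MvPolynomial σ A) (ε.symm c) = _
  rw [hε, RingHom.comp_apply, RingEquiv.toRingHom_eq_coe, RingHom.coe_coe, RingEquiv.apply_symm_apply]
  rfl

theorem exists_baseChange_equiv (P B : Type u) [CommRing P] [Algebra A P] [CharP P p] [CommRing B]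
    [Algebra A B] [Algebra P B] [IsScalarTower A P B] [CharP B p] [Algebra.Etale P B] :
    letI := (relFrob p A P).toAlgebra
    letI := (relFrob p A B).toAlgebra
    letI := (Algebra.TensorProduct.map (IsScalarTower.toAlgHom A P B) (AlgHom.id A (Twist p A))).toRingHom.toAlgebra
    Nonempty ((BaseChange p A B ⊗[BaseChange p A P] P) ≃ₗ[BaseChange p A B] B) := by
  letI := (relFrob p A P).toAlgebra
  letI := (relFrob p A B).toAlgebra
  letI a3 : Algebra (BaseChange p A P) (BaseChange p A B) :=
    (Algebra.TensorProduct.map (IsScalarTower.toAlgHom A P B) (AlgHom.id A (Twist p A))).toRingHom.toAlgebra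
  letI a4 : Algebra (BaseChange p A P) B :=
    ((algebraMap P B).comp (relFrob p A P)).toAlgebra
  letI : Module (BaseChange p A P) (BaseChange p A B) := a3.toModule
  letI : SMul (BaseChange p A P) (BaseChange p A B) := a3.toSMul
  haveI : IsScalarTower (BaseChange p A P) P B := .of_algebraMap_eq fun _ => rfl
  haveI : IsScalarTower (BaseChange p A P) (BaseChange p A B) B := .of_algebraMap_eq fun z => by
    show algebraMap P B (relFrob p A P z) =
      relFrob p A B (Algebra.TensorProduct.map (IsScalarTower.toAlgHom A P B) (AlgHom.id A (Twist p A)) z)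
    induction z using TensorProduct.induction_on with
    | zero => simp
    | add x y hx hy => simp only [map_add, hx, hy]
    | tmul b a => simp [relFrob_tmul, ← IsScalarTower.algebraMap_apply]
  let ψ : BaseChange p A B ⊗[BaseChange p A P] P →ₐ[BaseChange p A B] B :=
    Algebra.TensorProduct.lift (Algebra.ofId _ _) (IsScalarTower.toAlgHom (BaseChange p A P) P B)
      fun _ _ => Commute.all _ _
  refine ⟨(AlgEquiv.ofBijective ψ ?_).toLinearEquiv⟩
  let T := BaseChange p A B ⊗[BaseChange p A P] P
  let g : B →+* T := (Algebra.TensorProduct.includeLeftRingHom : BaseChange p A B →+* T).comp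
    (Algebra.TensorProduct.includeLeftRingHom : B →+* BaseChange p A B)
  letI : Algebra P T := (g.comp (algebraMap P B)).toAlgebra
  let j : BaseChange p A P →+* T := (algebraMap (BaseChange p A B) T).comp (algebraMap _ _)
  have hj : ∀ z : BaseChange p A P, ((1 : BaseChange p A B) ⊗ₜ[BaseChange p A P] relFrob p A P z) = j z := fun z => by
    show _ = (algebraMap (BaseChange p A P) (BaseChange p A B) z) ⊗ₜ[BaseChange p A P] (1 : P)
    exact (Algebra.TensorProduct.tmul_one_eq_one_tmul z).symm
  let θ : B ⊗[P] Twist p P →+* T :=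
    (Algebra.TensorProduct.lift (R := P) (S := P) (A := B) (B := Twist p P) (C := T)
      { g with commutes' := fun _ => rfl }
      { ((Algebra.TensorProduct.includeRight : P →ₐ[BaseChange p A P] T).toRingHom).comp
          ((toTwist p P).symm : Twist p P →+* P) with
        commutes' := fun y => by
          show (1 : BaseChange p A B) ⊗ₜ[BaseChange p A P] (toTwist p P).symm (algebraMap P (Twist p P) y) = _
          rw [algebraMap_twist, RingEquiv.symm_apply_apply, ← pow_mem_range p A P y, hj]
          show ((algebraMap P B y ⊗ₜ[A] (1 : Twist p A))) ⊗ₜ[BaseChange p A P] (1 : P) = _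
          rfl }
      fun _ _ => Commute.all _ _).toRingHom
  have hθl : ∀ b : B, θ (b ⊗ₜ 1) = g b := fun b => by simp [θ]; exact mul_one _
  have hθr : ∀ x : P, θ (1 ⊗ₜ toTwist p P x) = (1 : BaseChange p A B) ⊗ₜ[BaseChange p A P] x := fun x => by
    simp [θ]
  have hθ : Function.Surjective θ := by
    rw [← RingHom.range_eq_top, eq_top_iff]
    rintro z -
    induction z using TensorProduct.induction_on with
    | zero => exact zero_mem _
    | add x y hx hy => exact add_mem hx hy
    | tmul c x =>
      rw [show c ⊗ₜ[BaseChange p A P] x = c ⊗ₜ 1 * 1 ⊗ₜ x by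
        rw [Algebra.TensorProduct.tmul_mul_tmul, mul_one, one_mul]]
      refine mul_mem ?_ ⟨_, hθr x⟩
      induction c using TensorProduct.induction_on with
      | zero => rw [TensorProduct.zero_tmul]; exact zero_mem _
      | add x y hx hy => rw [TensorProduct.add_tmul]; exact add_mem hx hy
      | tmul b a =>
        rw [show (b ⊗ₜ[A] a) ⊗ₜ[BaseChange p A P] (1 : P) = g b * j ((1 : P) ⊗ₜ[A] a) by
          show _ = (b ⊗ₜ[A] (1 : Twist p A)) ⊗ₜ[BaseChange p A P] (1 : P) *
            (algebraMap P B 1 ⊗ₜ[A] a) ⊗ₜ[BaseChange p A P] (1 : P)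
          rw [Algebra.TensorProduct.tmul_mul_tmul, Algebra.TensorProduct.tmul_mul_tmul, map_one, mul_one, one_mul,
            mul_one]]
        refine mul_mem ⟨_, hθl b⟩ ?_
        rw [← hj]
        exact ⟨_, hθr _⟩
  have heq : ψ.toRingHom.comp θ = relFrob p P B := by
    refine RingHom.ext fun z => ?_
    induction z using TensorProduct.induction_on with
    | zero => simp
    | add x y hx hy => rw [map_add, map_add, hx, hy]
    | tmul b a =>
      obtain ⟨x, rfl⟩ := (toTwist p P).surjective a
      rw [show b ⊗ₜ[P] toTwist p P x = b ⊗ₜ 1 * 1 ⊗ₜ toTwist p P x by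
        rw [Algebra.TensorProduct.tmul_mul_tmul, mul_one, one_mul], map_mul, map_mul, RingHom.comp_apply,
        RingHom.comp_apply, hθl, hθr, pow_mem_range, algebraMap_mem_range]
      congr 1
      · show ψ ((b ⊗ₜ[A] (1 : Twist p A)) ⊗ₜ[BaseChange p A P] (1 : P)) = b ^ p
        simp only [ψ, Algebra.TensorProduct.lift_tmul, map_one, mul_one]
        exact pow_mem_range p A B b
      · simp [ψ]
  have hb := bijective_of_etale p P B
  rw [← heq] at hb
  refine ⟨fun x y h => ?_, fun b => ?_⟩
  · obtain ⟨x, rfl⟩ := hθ x
    obtain ⟨y, rfl⟩ := hθ y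
    exact congrArg θ (hb.1 h)
  · obtain ⟨z, hz⟩ := hb.2 b
    exact ⟨θ z, hz⟩

theorem main (B : Type u) [CommRing B] [Algebra A B] [CharP B p]
    [Algebra.Smooth A B] (r : ℕ)
    (hr : ∀ q : PrimeSpectrum B, Module.rankAtStalk (R := B) (KaehlerDifferential A B) q = r) :
    letI := (relFrob p A B).toAlgebra
    Module.Finite (BaseChange p A B) B ∧ Module.Projective (BaseChange p A B) B ∧
      ∀ q : PrimeSpectrum (BaseChange p A B), Module.rankAtStalk (R := BaseChange p A B) B q = p ^ r := by
  letI := (relFrob p A B).toAlgebra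
  have hi : ((Algebra.TensorProduct.includeRight : Twist p A →ₐ[A] BaseChange p A B).toRingHom.comp
      (toTwist p A : A →+* Twist p A)).FiniteType := by
    refine RingHom.FiniteType.comp ?_ (RingHom.FiniteType.of_surjective _ (toTwist p A).surjective)
    letI : Algebra (Twist p A) (BaseChange p A B) :=
      (Algebra.TensorProduct.includeRight : Twist p A →ₐ[A] BaseChange p A B).toRingHom.toAlgebra
    have h1 : Algebra.FiniteType (Twist p A) (Twist p A ⊗[A] B) := inferInstance
    exact RingHom.finiteType_algebraMap.mpr (@Algebra.FiniteType.equiv _ _ _ _ _ _ _ _ h1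
      (AlgEquiv.ofRingEquiv (R := Twist p A) (f := (Algebra.TensorProduct.comm A (Twist p A) B).toRingEquiv)
        fun a => by
          show Algebra.TensorProduct.comm A (Twist p A) B (a ⊗ₜ (1 : B)) = (1 : B) ⊗ₜ a
          rw [Algebra.TensorProduct.comm_tmul]))
  have hc : (relFrob p A B).comp ((Algebra.TensorProduct.includeRight : Twist p A →ₐ[A] BaseChange p A B).toRingHom.comp
      (toTwist p A : A →+* Twist p A)) = algebraMap A B := RingHom.ext fun a => algebraMap_mem_range p A B a
  have hfp : (algebraMap A B).FinitePresentation := RingHom.finitePresentation_algebraMap.mpr inferInstance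
  rw [← hc] at hfp
  haveI : Algebra.FiniteType (BaseChange p A B) B :=
    RingHom.finiteType_algebraMap.mp (RingHom.FiniteType.of_comp_finiteType (RingHom.FiniteType.of_finitePresentation hfp))
  haveI : Algebra.FinitePresentation (BaseChange p A B) B :=
    RingHom.finitePresentation_algebraMap.mp (RingHom.FinitePresentation.of_comp_finiteType _ hfp hi)
  haveI : Algebra.IsIntegral (BaseChange p A B) B := ⟨(S3191.result p A B).1⟩
  haveI : Module.Finite (BaseChange p A B) B := Algebra.IsIntegral.finite
  haveI : Module.FinitePresentation (BaseChange p A B) B :=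
    Module.FinitePresentation.of_finite_of_finitePresentation _ _
  haveI : Module.Flat (BaseChange p A B) B := flat_of_smooth p A B
  refine ⟨inferInstance, Module.Flat.projective_of_finitePresentation, fun q => ?_⟩
  let g : B →+* BaseChange p A B := Algebra.TensorProduct.includeLeftRingHom
  let Q : PrimeSpectrum B := PrimeSpectrum.comap g q
  have hQ : PrimeSpectrum.comap (relFrob p A B) Q = q := by
    refine PrimeSpectrum.ext (Ideal.ext fun z => ?_)
    show g (relFrob p A B z) ∈ q.asIdeal ↔ z ∈ q.asIdeal
    have hz : g (relFrob p A B z) = z ^ p := by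
      induction z using TensorProduct.induction_on with
      | zero => rw [map_zero, map_zero, zero_pow hp.out.ne_zero]
      | tmul x a =>
        rw [relFrob_tmul, Algebra.TensorProduct.tmul_pow]
        show (x ^ p * algebraMap A B _) ⊗ₜ[A] (1 : Twist p A) = _
        rw [mul_comm, ← Algebra.smul_def, TensorProduct.smul_tmul, Algebra.smul_def, algebraMap_twist, mul_one,
          map_pow, RingEquiv.apply_symm_apply]
      | add x y hx hy =>
        haveI : Nontrivial (BaseChange p A B) := PrimeSpectrum.nontrivial q
        haveI : CharP (BaseChange p A B) p := (CharP.charP_iff_prime_eq_zero hp.out).mpr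
          (by rw [← map_natCast g, CharP.cast_eq_zero, map_zero])
        rw [map_add, map_add, hx, hy, add_pow_char]
    rw [hz]
    exact ⟨q.2.mem_of_pow_mem p, fun h => Ideal.pow_mem_of_mem _ h p hp.out.pos⟩
  obtain ⟨f, hf, n, i, hT, hE⟩ :=
    Algebra.IsSmoothAt.exists_isStandardEtale_mvPolynomial (R := A) (S := B) (p := Q.asIdeal)
  let B' := Localization.Away f
  let P := MvPolynomial (Fin n) A
  haveI : Algebra.Etale B B' := inferInstance
  haveI : Algebra.Etale P B' := inferInstance
  obtain ⟨Q', hQ'⟩ : ∃ Q' : PrimeSpectrum B', PrimeSpectrum.comap (algebraMap B B') Q' = Q := by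
    have : Q ∈ Set.range (PrimeSpectrum.comap (algebraMap B B')) := by
      rw [PrimeSpectrum.localization_away_comap_range B' f]
      exact hf
    exact this
  haveI : Nontrivial B' := PrimeSpectrum.nontrivial Q'
  haveI : CharP B' p := (CharP.charP_iff_prime_eq_zero hp.out).mpr
    (by rw [← map_natCast (algebraMap B B'), CharP.cast_eq_zero, map_zero])
  haveI : Nontrivial A := RingHom.domain_nontrivial (algebraMap A B')
  letI := (relFrob p A B').toAlgebra
  let q' := PrimeSpectrum.comap (relFrob p A B') Q'
  -- over `B`
  obtain ⟨e₁⟩ := exists_baseChange_equiv p A B B'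
  obtain ⟨e₂⟩ := exists_baseChange_equiv p A P B'
  have h1 : Module.rankAtStalk (R := BaseChange p A B') B' q' = Module.rankAtStalk (R := BaseChange p A B) B q := by
    letI := (Algebra.TensorProduct.map (IsScalarTower.toAlgHom A B B') (AlgHom.id A (Twist p A))).toRingHom.toAlgebra
    rw [← Module.rankAtStalk_eq_of_equiv e₁, Module.rankAtStalk_baseChange]
    congr 1
    rw [← hQ, ← hQ']
    refine PrimeSpectrum.ext (Ideal.ext fun z => ?_)
    show relFrob p A B' (Algebra.TensorProduct.map (IsScalarTower.toAlgHom A B B') (AlgHom.id A (Twist p A)) z) ∈ Q'.asIdeal ↔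
      algebraMap B B' (relFrob p A B z) ∈ Q'.asIdeal
    suffices hs : relFrob p A B' (Algebra.TensorProduct.map (IsScalarTower.toAlgHom A B B') (AlgHom.id A (Twist p A)) z) =
        algebraMap B B' (relFrob p A B z) by rw [hs]
    induction z using TensorProduct.induction_on with
    | zero => simp
    | add x y hx hy => simp only [map_add, hx, hy]
    | tmul b a => simp [relFrob_tmul, ← IsScalarTower.algebraMap_apply]
  letI := (relFrob p A P).toAlgebra
  letI := (Algebra.TensorProduct.map (IsScalarTower.toAlgHom A P B') (AlgHom.id A (Twist p A))).toRingHom.toAlgebra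
  obtain ⟨hfree, hfin, hrk⟩ := free_mvPolynomial p A (Fin n)
  haveI : Nontrivial (BaseChange p A P) := (relFrob p A P).domain_nontrivial
  have h2 : Module.rankAtStalk (R := BaseChange p A B') B' q' = p ^ n := by
    rw [← Module.rankAtStalk_eq_of_equiv e₂, Module.rankAtStalk_baseChange, Module.rankAtStalk_eq_finrank_of_free]
    simpa using hrk
  -- the differentials
  have h3 : Module.rankAtStalk (R := B') (KaehlerDifferential A B') Q' = r := by
    rw [← Module.rankAtStalk_eq_of_equiv (KaehlerDifferential.tensorKaehlerEquivOfFormallyEtale A B B'),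
      Module.rankAtStalk_baseChange]
    exact hr _
  have h4 : Module.rankAtStalk (R := B') (KaehlerDifferential A B') Q' = n := by
    haveI : Module.Free P (KaehlerDifferential A P) := Module.Free.of_basis (KaehlerDifferential.mvPolynomialBasis A (Fin n))
    haveI : Module.Finite P (KaehlerDifferential A P) := Module.Finite.of_basis (KaehlerDifferential.mvPolynomialBasis A (Fin n))
    rw [← Module.rankAtStalk_eq_of_equiv (KaehlerDifferential.tensorKaehlerEquivOfFormallyEtale A P B'),
      Module.rankAtStalk_baseChange, Module.rankAtStalk_eq_finrank_of_free]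
    exact (Module.finrank_eq_card_basis (KaehlerDifferential.mvPolynomialBasis A (Fin n))).trans (Fintype.card_fin n)
  rw [← h1, h2, ← h4, h3]

end Groth.Agent.RelFrobSmooth
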